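import Cfsg.Agent.Lib.LocalEven.BenderSplit.Linear.Adapter
import Cfsg.Agent.Lib.LocalEven.BenderSplit.LinearArith

/-!
# The linear case with faithful two-point stabiliser and a pure element
-/

set_option autoImplicit false

namespace CfsgLib.LocalEven.BenderSplit

open Subgroup MulAction CfsgLib.Involution.Dihedral CfsgLib.Involution
  CfsgLib.LocalEven.BenderTransitive CfsgLib.LocalEven.SwapInjective CfsgLib.LocalEven.StrongCore

universe u

variable {G : Type u} [Group G] [Finite G] {H : Subgroup G}

/-- In the faithful linear case with a pure element, the 2-elements of `G_a` centralise the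
involutions at `a`. -/
theorem twoGen_le_centralizer_of_pure (h : MinSplit H) {a b : G ⧸ H} (hab : a ≠ b)
    (hlin : ∀ s t : G, orderOf s = 2 → s • a = a → orderOf t = 2 → t • a = a → Commute s t)
    (hfaith : ∀ c ∈ stab2 a b, (∀ t : G, orderOf t = 2 → t • a = a → Commute c t) → c = 1)
    {x : G} (hx : Pure x a b) :
    ∀ g ∈ twoGen (stabilizer G a), ∀ t : G, orderOf t = 2 → t • a = a → Commute g t :=
  twoGen_le_centralizer_of_pure_of_arith h hab hlin hfaith hx fun _ _ _ F h2 =>
    (F.lin h hab hlin hx.mem h2).false_of_lin

end CfsgLib.LocalEven.BenderSplit
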