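import Cfsg.Agent.Lib.LocalEven.BenderSplit.Linear.Faithful
import Cfsg.Agent.Lib.LocalEven.BenderSplit.LinearSetup

/-!
# The linear case: from the faithful data to the hypotheses of the arithmetic
-/

set_option autoImplicit false
set_option linter.style.haveILetI false

namespace CfsgLib.LocalEven.BenderSplit

open Subgroup MulAction CfsgLib.Involution.Dihedral CfsgLib.Involution
  CfsgLib.LocalEven.BenderTransitive CfsgLib.LocalEven.SwapInjective CfsgLib.LocalEven.StrongCore

universe u

variable {G : Type u} [Group G] [Finite G] {H : Subgroup G}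

/-- The cosets of a strongly embedded subgroup are permuted doubly transitively. -/
theorem MinSplit.isMultiplyPretransitive (h : MinSplit H) :
    IsMultiplyPretransitive G (G ⧸ H) 2 := by
  rw [is_two_pretransitive_iff]
  intro p q r s hpq hrs
  obtain ⟨g, hg⟩ := exists_smul_eq G p r
  have hq : g • q ≠ r := fun e => hpq (smul_left_cancel g (hg.trans e.symm))
  obtain ⟨k, hk, e⟩ := pairTransitive h.min.se h.min.comm r _ _ hq hrs.symm
  exact ⟨k * g, by rw [mul_smul, hg, hk], by rw [mul_smul, e]⟩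

/-- The faithful data satisfy the hypotheses of the linear arithmetic. -/
theorem FaithData.lin (h : MinSplit H) {a b : G ⧸ H} (hab : a ≠ b)
    (hlin : ∀ s t : G, orderOf s = 2 → s • a = a → orderOf t = 2 → t • a = a → Commute s t)
    {x u k₀ : G} {l : ℕ} (F : FaithData x a b u k₀ l)
    (hxD : x ∈ stab2 a b)
    (h2 : IsMultiplyPretransitive (stabilizer G a) (InvAt a) 2) :
    CfsgLib.BenderSplit.LinearArith.Lin a b (zpowers k₀) u x l (2 ^ l - 1) := by
  have hH := h.min.se
  have hKD : zpowers k₀ ≤ stab2 a b := zpowers_le.2 F.mem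
  have hub : u • b = a := BenderTransitive.swap_smul (H := H) F.swap F.swap_smul
  have huinv : ∀ k ∈ zpowers k₀, u * k * u⁻¹ = k⁻¹ := by
    intro k hk
    obtain ⟨i, rfl⟩ := mem_zpowers_iff.1 hk
    rw [← _root_.conj_zpow, F.inverted, inv_zpow]
  have hxl : x ^ l = 1 := F.order_x ▸ pow_orderOf_eq_one x
  have hxpow : ∀ i : ℕ, x ^ i ≠ 1 → ∀ k ∈ zpowers k₀, Commute (x ^ i) k → k = 1 := by
    intro i hi k hk hc
    have hcop : (orderOf x).Coprime i := by
      rw [F.order_x]
      exact F.prime.coprime_iff_not_dvd.2 fun hdvd => hi (by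
        obtain ⟨q, rfl⟩ := hdvd
        rw [pow_mul, hxl, one_pow])
    obtain ⟨q, hq⟩ := exists_pow_eq_self_of_coprime hcop.symm
    exact F.fpf k hk (hq ▸ (hc.pow_left q).symm)
  refine
    { two := h.isMultiplyPretransitive
      hab := hab, lp := F.prime, l_odd := F.odd, hm := rfl
      one_fix := fun t ht => ?_
      card_inv := F.card
      comm_inv := fun s t hs ht hsa hta => (hlin s t hs hsa ht hta).eq
      two_inv := ?_
      hu := F.swap, hua := F.swap_smul
      K_fix := fun k hk => mem_stab2.1 (hKD hk)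
      card_K := by rw [Nat.card_zpowers, F.order]
      inverts := huinv
      regular := F.regular
      x_fix := mem_stab2.1 hxD
      x_pow := hxl
      x_u := F.swap_comm.eq.symm
      x_norm := F.norm
      x_fpf := fun k hk e => F.fpf k hk (mul_inv_eq_iff_eq_mul.1 e).symm
      gen := fun d ha hb => F.factor d (mem_stab2.2 ⟨ha, hb⟩)
      K_only := F.fixes
      cent := ?_
      count := fun q hq => ?_ }
  · obtain ⟨p, hp⟩ := SE.exists_fixed hH ht
    exact ⟨p, hp, fun q hq => SE.fixed_unique hH ht hq hp⟩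
  · intro s t s' t' hs hsa ht hta hs' hs'a ht' ht'a hne hne'
    have hA : (⟨s, hs, hsa⟩ : InvAt a) ≠ ⟨t, ht, hta⟩ := fun e => hne (congrArg Subtype.val e)
    have hB : (⟨s', hs', hs'a⟩ : InvAt a) ≠ ⟨t', ht', ht'a⟩ := fun e => hne' (congrArg Subtype.val e)
    obtain ⟨g, hg1, hg2⟩ := is_two_pretransitive_iff.1 h2 hA hB
    exact ⟨g, g.2, congrArg Subtype.val hg1, congrArg Subtype.val hg2⟩
  · intro k hk hk1 g hg
    have hfix : ∀ c : G ⧸ H, k • c = c → k • (g • c) = g • c := fun c hc => by
      rw [← mul_smul, ← hg, mul_smul, hc]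
    obtain ⟨hka, hkb⟩ := mem_stab2.1 (hKD hk)
    have hcomm : ∀ {d : G}, d ∈ stab2 a b → ∃ j ∈ zpowers k₀, ∃ i : ℕ,
        d = j * x ^ i ∧ ∀ e ∈ zpowers k₀, j * e * j⁻¹ = e := by
      intro d hd
      obtain ⟨j, hj, i, rfl⟩ := F.factor d hd
      refine ⟨j, hj, i, rfl, fun e he => ?_⟩
      obtain ⟨m, rfl⟩ := mem_zpowers_iff.1 hj
      obtain ⟨m', rfl⟩ := mem_zpowers_iff.1 he
      rw [← zpow_add, add_comm, zpow_add, mul_inv_cancel_right]
    rcases F.fixes k hk hk1 _ (hfix a hka) with ha | ha <;>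
      rcases F.fixes k hk hk1 _ (hfix b hkb) with hb | hb
    · exact absurd (smul_left_cancel g (ha.trans hb.symm)) hab
    · obtain ⟨j, hj, i, rfl, hje⟩ := hcomm (mem_stab2.2 ⟨ha, hb⟩)
      by_cases hi : x ^ i = 1
      · rw [hi, mul_one]; exact hj
      refine absurd (hxpow i hi k hk ?_) hk1
      have h1 := hje k hk
      show x ^ i * k = k * x ^ i
      calc x ^ i * k = j⁻¹ * (j * x ^ i * k) := by group
        _ = j⁻¹ * (k * (j * x ^ i)) := by rw [hg]
        _ = j⁻¹ * ((j * k * j⁻¹) * (j * x ^ i)) := by rw [h1]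
        _ = k * x ^ i := by group
    · have hd : u * g ∈ stab2 a b := mem_stab2.2
        ⟨by rw [mul_smul, ha, hub], by rw [mul_smul, hb, F.swap_smul]⟩
      obtain ⟨j, hj, i, he, hje⟩ := hcomm hd
      have hgk : g * k * g⁻¹ = k := mul_inv_eq_iff_eq_mul.2 hg
      have h1 : x ^ i * k * (x ^ i)⁻¹ = k⁻¹ := by
        have h2 : u * (g * k * g⁻¹) * u⁻¹ = j * (x ^ i * k * (x ^ i)⁻¹) * j⁻¹ := by
          rw [show u * (g * k * g⁻¹) * u⁻¹ = (u * g) * k * (u * g)⁻¹ by group, he]; group
        have hmem : x ^ i * k * (x ^ i)⁻¹ ∈ zpowers k₀ := by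
          have h4 : ∀ n : ℕ, x ^ n * k * (x ^ n)⁻¹ ∈ zpowers k₀ := by
            intro n
            induction n with
            | zero => simpa using hk
            | succ n ih =>
              rw [pow_succ', show x * x ^ n * k * (x * x ^ n)⁻¹ = x * (x ^ n * k * (x ^ n)⁻¹) * x⁻¹
                by group]
              exact F.norm _ ih
          exact h4 i
        rw [hgk, huinv k hk, hje _ hmem] at h2
        exact h2.symm
      have h5 : x ^ (i + i) * k * (x ^ (i + i))⁻¹ = k := by
        rw [pow_add, show x ^ i * x ^ i * k * (x ^ i * x ^ i)⁻¹ =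
          x ^ i * (x ^ i * k * (x ^ i)⁻¹) * (x ^ i)⁻¹ by group, h1,
          ← conj_inv, h1, inv_inv]
      have hk2 : ∀ y : G, Odd (orderOf y) → y * y = 1 → y = 1 := fun y hy hyy => by
        obtain ⟨n, hn⟩ := hy
        have h6 := pow_orderOf_eq_one y
        rwa [hn, pow_succ, pow_mul, pow_two, hyy, one_pow, one_mul] at h6
      by_cases hi : x ^ (i + i) = 1
      · have hxi : x ^ i = 1 := hk2 _ ((show Odd (orderOf x) from F.order_x.symm ▸ F.odd).of_dvd_nat
          (orderOf_pow_dvd i)) (by rw [← pow_add]; exact hi)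
        rw [hxi, one_mul, inv_one, mul_one] at h1
        refine absurd (hk2 k ?_ ?_) hk1
        · exact (odd_stab2 hH hab).of_dvd_nat (Subgroup.orderOf_dvd_natCard _ (hKD hk))
        · nth_rewrite 2 [h1]; exact mul_inv_cancel k
      · exact absurd (hxpow _ hi k hk (mul_inv_eq_iff_eq_mul.1 h5)) hk1
    · exact absurd (smul_left_cancel g (ha.trans hb.symm)) hab
  · rw [SE.card_swaps hH hq.symm, ← F.card, card_involutions_fixing hH]
    rfl

end CfsgLib.LocalEven.BenderSplit
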