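import Cfsg.Agent.Lib.LocalEven.BenderSplit.Pure

/-!
# An element of a two-point stabiliser centralising all involutions at a point

If the involutions at `a` commute and some nontrivial element fixing `a` and `b` centralises them
all, then every `2`-element fixing `a` centralises them all.
-/

set_option autoImplicit false
set_option linter.style.haveILetI false

namespace CfsgLib.LocalEven.BenderSplit

open Subgroup MulAction CfsgLib.Involution.Dihedral CfsgLib.Involution
  CfsgLib.LocalEven.BenderTransitive CfsgLib.LocalEven.SwapInjective CfsgLib.LocalEven.StrongCore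

universe u

variable {G : Type u} [Group G] {H : Subgroup G}

/-- The kernel of a point stabiliser on the involutions at the point. -/
def involutionKernel (a : G ⧸ H) : Subgroup G :=
  stabilizer G a ⊓ centralizer ({t : G | orderOf t = 2 ∧ t • a = a} : Set G)

theorem mem_involutionKernel {a : G ⧸ H} {g : G} :
    g ∈ involutionKernel a ↔ g • a = a ∧ ∀ t : G, orderOf t = 2 → t • a = a → Commute g t := by
  rw [involutionKernel, mem_inf, mem_stabilizer_iff, mem_centralizer_iff]
  exact and_congr_right fun _ =>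
    ⟨fun h t ht hta => (h t ⟨ht, hta⟩).symm, fun h t ht => (h t ht.1 ht.2).eq.symm⟩

theorem conj_mem_involutionKernel {a : G ⧸ H} {g x : G} (hg : g • a = a)
    (hx : x ∈ involutionKernel a) : g * x * g⁻¹ ∈ involutionKernel a := by
  rw [mem_involutionKernel] at hx ⊢
  have hg' : g⁻¹ • a = a := inv_smul_eq_iff.2 hg.symm
  refine ⟨by rw [mul_smul, mul_smul, hg', hx.1, hg], fun t ht hta => ?_⟩
  have h := hx.2 (g⁻¹ * t * g) ((by simpa using orderOf_conj g⁻¹ t : orderOf (g⁻¹ * t * g) =
    orderOf t).trans ht) (by rw [mul_smul, mul_smul, hg, hta, hg'])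
  have e : g * (g⁻¹ * t * g) * g⁻¹ = t := by group
  have h' := h.map (MulAut.conj g).toMonoidHom
  simp only [MulEquiv.coe_toMonoidHom, MulAut.conj_apply, e] at h'
  exact h'

variable [Finite G]

/-- An odd element cannot carry a `2`-element out of a normal subgroup. -/
theorem mem_of_odd_factor {K S : Subgroup G} (hKS : K ≤ S) (hnorm : S ≤ normalizer (K : Set G))
    {g d : G} {i : ℕ} (hg : g ∈ S) (hgi : g ^ 2 ^ i = 1) (hd : d ∈ S) (hdodd : Odd (orderOf d))
    (hgd : d⁻¹ * g ∈ K) : g ∈ K := by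
  haveI : (K.subgroupOf S).Normal := normal_subgroupOf_of_le_normalizer hnorm
  set π := QuotientGroup.mk' (K.subgroupOf S)
  have e : π ⟨d, hd⟩ = π ⟨g, hg⟩ := QuotientGroup.eq.2 (mem_subgroupOf.2 hgd)
  have h1 : orderOf (π ⟨g, hg⟩) ∣ 2 ^ i := orderOf_dvd_of_pow_eq_one (by
    rw [← map_pow, show (⟨g, hg⟩ : S) ^ 2 ^ i = 1 from Subtype.ext hgi, map_one])
  have h2 : orderOf (π ⟨g, hg⟩) ∣ orderOf d := by
    rw [← e]; exact (orderOf_map_dvd π _).trans (orderOf_mk d hd).dvd
  exact mem_subgroupOf.1 ((QuotientGroup.eq_one_iff _).1 (orderOf_eq_one_iff.1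
    (Nat.eq_one_of_dvd_coprimes ((Nat.coprime_two_left.2 hdodd).pow_left i) h1 h2)))

/-- If an element of `G_{a,b}` centralises the commuting involutions at `a`, so does every
`2`-element fixing `a`. -/
theorem twoGen_le_centralizer_of_centralized (h : MinSplit H) {a b : G ⧸ H} (hab : a ≠ b)
    (hlin : ∀ s t : G, orderOf s = 2 → s • a = a → orderOf t = 2 → t • a = a → Commute s t)
    {c : G} (hc : c ∈ stab2 a b) (hc1 : c ≠ 1)
    (hcE : ∀ t : G, orderOf t = 2 → t • a = a → Commute c t) :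
    ∀ g ∈ twoGen (stabilizer G a), ∀ t : G, orderOf t = 2 → t • a = a → Commute g t := by
  classical
    have hH := h.min.se
  set C0 := involutionKernel a with hC0
  set W := stab2 a b ⊓ C0 with hW
  have hcW : c ∈ W := mem_inf.2 ⟨hc, mem_involutionKernel.2 ⟨(mem_stab2.1 hc).1, hcE⟩⟩
  obtain ⟨r, hr, hrc⟩ := Nat.exists_prime_and_dvd (n := orderOf c)
    fun e => hc1 (orderOf_eq_one_iff.1 e)
  haveI := Fact.mk hr
  have hrW : r ∣ Nat.card W := hrc.trans (Subgroup.orderOf_dvd_natCard _ hcW)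
  have hr2 : r ≠ 2 := fun e => Nat.not_even_iff_odd.2 (odd_stab2 hH hab)
    (even_iff_two_dvd.2 (e ▸ hrW.trans (Subgroup.card_dvd_of_le inf_le_left)))
  obtain ⟨R, hRW, hR, hRcard⟩ := exists_sylow_in (p := r) W
  have hR1 : R ≠ ⊥ := by
    intro e
    rw [e, Subgroup.card_bot] at hRcard
    rcases Nat.pow_eq_one.1 hRcard.symm with h1 | h1
    · exact hr.one_lt.ne' h1
    · exact absurd h1 (hr.factorization_pos_of_dvd Nat.card_pos.ne' hrW).ne'
  -- a central element of order `r`
  haveI : Nontrivial R := (nontrivial_iff_ne_bot R).2 hR1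
  obtain ⟨z, hzc, hz⟩ : ∃ z : R, z ∈ center R ∧ orderOf z = r := by
    haveI := hR.center_nontrivial
    obtain ⟨n, hn, hn'⟩ := (hR.to_subgroup (center R)).nontrivial_iff_card.1 inferInstance
    obtain ⟨z, hz⟩ := exists_prime_orderOf_dvd_card' (G := center R) r
      (hn' ▸ dvd_pow_self r hn.ne')
    exact ⟨z, z.2, (orderOf_coe z).trans hz⟩
  have hzr : orderOf (z : G) = r := (orderOf_coe z).trans hz
  have hzW : (z : G) ∈ W := hRW z.2
  have hzab : (z : G) ∈ stab2 a b := (mem_inf.1 hzW).1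
  have hzE : ∀ t : G, orderOf t = 2 → t • a = a → Commute (z : G) t :=
    (mem_involutionKernel.1 (mem_inf.1 hzW).2).2
  have hRz : R ≤ centralizer ({(z : G)} : Set G) := fun x hx => mem_centralizer_singleton_iff.2
    (congrArg Subtype.val (Subgroup.mem_center_iff.1 hzc ⟨x, hx⟩))
  have hRab : R ≤ stab2 a b := hRW.trans inf_le_left
  obtain ⟨v, w, hv, hva, hw, hwa, -, hne⟩ := exists_four hH h.min.comm a
  have h2 : Two (z : G) a := by
    rcases one_or_two h hab hzr hzab (even_centralizer_of_commute hv (hzE v hv hva).symm) with h1 | h1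
    · exact absurd (h1.2 v w hv hva (hzE v hv hva).symm hw hwa (hzE w hw hwa).symm) hne
    · exact h1
  obtain ⟨T, hT⟩ := exists_twoSplit h hab hzr hzab h2
  have hTC : T ≤ C0 := fun x hx => mem_involutionKernel.2
    ⟨mem_stabilizer_iff.1 (hT.le hx).2, fun t ht hta => (hT.inv_central t
      (mem_centralizer_singleton_iff.2 (hzE t ht hta).symm) ht hta x hx).symm⟩
  -- the other fixed points of `R` are translates of `b`
  have htrans : ∀ e : G ⧸ H, e ≠ a → R ≤ stabilizer G e →
      ∃ τ ∈ T, τ ∈ centralizer (R : Set G) ∧ τ • b = e := fun e hea hRe =>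
    exists_translation h hab hzr hzab h2 hT hRz hRab hea (mem_stabilizer_iff.1 (hRe z.2)) hRe
  -- `R` is a Sylow subgroup of the kernel
  have hRC : R ≤ C0 := hRW.trans inf_le_right
  obtain ⟨S, hS⟩ := (hR.of_equiv (subgroupOfEquivOfLe hRC).symm).exists_le_sylow
  set P := (S : Subgroup C0).map C0.subtype with hP
  have hRP : R ≤ P := fun x hx => ⟨⟨x, hRC hx⟩, hS (mem_subgroupOf.2 hx), rfl⟩
  have hPR : P = R := by
    rcases hRP.eq_or_lt with e | hlt
    · exact e.symm
    exfalso
    obtain ⟨x, hxP, hxN, hxR⟩ := exists_normalizer_not_mem (S.isPGroup'.map _) hlt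
    have hxC : x ∈ C0 := map_subtype_le _ hxP
    have hxa : x • a = a := (mem_involutionKernel.1 hxC).1
    obtain ⟨j, hj⟩ := (S.isPGroup'.map C0.subtype) ⟨x, hxP⟩
    have hxj : x ^ r ^ j = 1 := congrArg Subtype.val hj
    let F := {e : G ⧸ H // e ≠ a ∧ R ≤ stabilizer G e}
    have hmove : ∀ g : zpowers x, ∀ e : F, (g : G) • e.1 ≠ a ∧ R ≤ stabilizer G ((g : G) • e.1) :=
      fun g e => ⟨fun he => e.2.1 (smul_left_cancel (g : G) (he.trans
        (mem_stabilizer_iff.1 (zpowers_le.2 (mem_stabilizer_iff.2 hxa) g.2)).symm)),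
        smul_of_normalizes (zpowers_le.2 hxN g.2) e.2.2⟩
    letI : MulAction (zpowers x) F :=
      { smul := fun g e => ⟨(g : G) • e.1, hmove g e⟩
        one_smul := fun e => Subtype.ext (by
          show ((1 : zpowers x) : G) • e.1 = e.1
          simp)
        mul_smul := fun g g' e => Subtype.ext (mul_smul (g : G) (g' : G) e.1) }
    have hcardF : Nat.card F = Nat.card ↥(T ⊓ centralizer (R : Set G)) := by
      refine (Nat.card_congr (Equiv.ofBijective (fun τ : ↥(T ⊓ centralizer (R : Set G)) =>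
        (⟨(τ : G) • b, fun e => hab (smul_left_cancel (τ : G) ((mem_stabilizer_iff.1
            (hT.le (mem_inf.1 τ.2).1).2).trans e.symm)), fun y hy => by
          rw [mem_stabilizer_iff, smul_smul, mem_centralizer_iff.1 (mem_inf.1 τ.2).2 y hy, mul_smul,
            (mem_stab2.1 (hRab hy)).2]⟩ : F)) ⟨fun τ τ' e => ?_, fun e => ?_⟩)).symm
      · have e' : (τ : G) • b = (τ' : G) • b := congrArg (fun f : F => f.1) e
        exact Subtype.ext (inv_mul_eq_one.1 (eq_one_of_pgroup_fixed hH hT.two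
          (mul_mem (inv_mem (mem_inf.1 τ.2).1) (mem_inf.1 τ'.2).1) hab
          (mem_stabilizer_iff.1 (mul_mem (inv_mem (hT.le (mem_inf.1 τ.2).1).2)
            (hT.le (mem_inf.1 τ'.2).1).2))
          (by rw [mul_smul, ← e', inv_smul_smul])))
      · obtain ⟨τ, hτ, hτR, e'⟩ := htrans e.1 e.2.1 e.2.2
        exact ⟨⟨τ, mem_inf.2 ⟨hτ, hτR⟩⟩, Subtype.ext e'⟩
    have hndvd : ¬ r ∣ Nat.card F := by
      haveI : Fact (Nat.Prime 2) := ⟨Nat.prime_two⟩
      obtain ⟨n, hn⟩ := (hT.two.to_le (inf_le_left : T ⊓ centralizer (R : Set G) ≤ T)).exists_card_eq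
      rw [hcardF, hn]
      exact fun hd => hr2 ((Nat.prime_dvd_prime_iff_eq hr Nat.prime_two).1 (hr.dvd_of_dvd_pow hd))
    have hxp : IsPGroup r (zpowers x) :=
      (S.isPGroup'.map C0.subtype).to_le (zpowers_le.2 hxP)
    haveI : Finite F := inferInstance
    obtain ⟨e, he⟩ := hxp.nonempty_fixed_point_of_prime_not_dvd_card (α := F) hndvd
    have hxe : x • e.1 = e.1 := congrArg (fun f : F => f.1) (he ⟨x, mem_zpowers x⟩)
    obtain ⟨τ, hτ, hτR, hτb⟩ := htrans e.1 e.2.1 e.2.2
    have hτa : τ • a = a := mem_stabilizer_iff.1 (hT.le hτ).2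
    set y := τ⁻¹ * x * τ with hy
    have hyW : y ∈ W := by
      refine mem_inf.2 ⟨mem_stab2.2 ⟨?_, ?_⟩, ?_⟩
      · rw [hy, mul_smul, mul_smul, hτa, hxa, inv_smul_eq_iff.2 hτa.symm]
      · rw [hy, mul_smul, mul_smul, hτb, hxe, ← hτb, inv_smul_smul]
      · have := conj_mem_involutionKernel (inv_smul_eq_iff.2 hτa.symm) hxC
        rwa [inv_inv] at this
    have hτN : τ ∈ normalizer (R : Set G) := centralizer_le_normalizer _ hτR
    have hyN : y ∈ normalizer (R : Set G) := mul_mem (mul_mem (inv_mem hτN) hxN) hτN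
    have hyp : IsPGroup r (zpowers y) := by
      obtain ⟨k, -, hk⟩ := (Nat.dvd_prime_pow hr).1 (orderOf_dvd_of_pow_eq_one (show y ^ r ^ j = 1 by
        rw [hy, show τ⁻¹ * x * τ = τ⁻¹ * x * τ⁻¹⁻¹ by rw [inv_inv], _root_.conj_pow, hxj, mul_one,
          mul_inv_cancel]))
      exact isPGroup_zpowers_of_orderOf hk
    have hsup : IsPGroup r ↥(R ⊔ zpowers y) := hR.to_sup_of_normal_left' hyp (zpowers_le.2 hyN)
    have hle : R ⊔ zpowers y ≤ W := sup_le hRW (zpowers_le.2 hyW)
    have heq : R = R ⊔ zpowers y := by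
      refine Subgroup.eq_of_le_of_card_ge le_sup_left ?_
      obtain ⟨k, hk⟩ := hsup.exists_card_eq
      rw [hRcard, hk]
      exact Nat.pow_le_pow_right hr.pos ((hr.pow_dvd_iff_le_factorization Nat.card_pos.ne').1
        (hk ▸ Subgroup.card_dvd_of_le hle))
    have hyR : y ∈ R := heq.symm ▸ mem_sup_right (mem_zpowers y)
    refine hxR ?_
    have e2 : x = τ * y * τ⁻¹ := by rw [hy]; group
    rw [e2, ← mem_centralizer_iff.1 hτR y hyR, mul_inv_cancel_right]
    exact hyR
  -- every element at `a` is the product of an element of the kernel and one fixing `b`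
  have hfac : ∀ g : G, g • a = a → ∃ d ∈ stab2 a b, d⁻¹ * g ∈ C0 := by
    intro g hga
    have hle : R.map (MulAut.conj g).toMonoidHom ≤ C0 := by
      rintro _ ⟨y, hy, rfl⟩
      exact conj_mem_involutionKernel hga (hRC hy)
    have hcard : Nat.card R = r ^ (Nat.card C0).factorization r := by
      rw [← hPR, hP, Coprime.card_map_subtype, Sylow.card_eq_multiplicity]
    obtain ⟨S₁, hS₁⟩ := Coprime.exists_sylow_map_eq hRC hcard
    obtain ⟨S₂, hS₂⟩ := Coprime.exists_sylow_map_eq hle (by rw [Coprime.card_conj_map, hcard])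
    obtain ⟨k, hk⟩ := MulAction.exists_smul_eq C0 S₂ S₁
    have hn : (k : G) * g ∈ normalizer (R : Set G) := by
      refine mem_normalizer_iff_map_conj_eq.2 ?_
      rw [show ((MulAut.conj ((k : G) * g) : MulAut G) : G →* G) =
        (MulAut.conj (k : G)).toMonoidHom.comp (MulAut.conj g).toMonoidHom by
          ext x; simp [mul_assoc], ← Subgroup.map_map, ← hS₂, ← Coprime.map_smul_sylow, hk, hS₁]
    have hka : (k : G) • a = a := (mem_involutionKernel.1 k.2).1
    have hna : ((k : G) * g) • a = a := by rw [mul_smul, hga, hka]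
    obtain ⟨τ, hτ, -, hτb⟩ := htrans (((k : G) * g) • b)
      (fun e => hab (smul_left_cancel _ (hna.trans e.symm)))
      (smul_of_normalizes hn (hRab.trans inf_le_right))
    refine ⟨τ⁻¹ * ((k : G) * g), mem_stab2.2 ⟨?_, ?_⟩, ?_⟩
    · rw [mul_smul, hna, inv_smul_eq_iff.2 (mem_stabilizer_iff.1 (hT.le hτ).2).symm]
    · rw [mul_smul, ← hτb, inv_smul_smul]
    · have hga' : g⁻¹ • a = a := inv_smul_eq_iff.2 hga.symm
      have e : (τ⁻¹ * ((k : G) * g))⁻¹ * g = g⁻¹ * ((k : G)⁻¹ * τ) * g⁻¹⁻¹ := by group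
      rw [e]
      exact conj_mem_involutionKernel hga' (mul_mem (inv_mem k.2) (hTC hτ))
  suffices hall : twoGen (stabilizer G a) ≤ C0 from
    fun g hg t ht hta => (mem_involutionKernel.1 (hall hg)).2 t ht hta
  refine twoGen_le_iff.2 fun g hg i hi => ?_
  obtain ⟨d, hd, hdg⟩ := hfac g (mem_stabilizer_iff.1 hg)
  have hnorm : stabilizer G a ≤ normalizer (C0 : Set G) := by
    intro x hx
    refine mem_normalizer_iff.2 fun y => ⟨fun hy => conj_mem_involutionKernel (mem_stabilizer_iff.1 hx) hy,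
      fun hy => ?_⟩
    have := conj_mem_involutionKernel (inv_smul_eq_iff.2 (mem_stabilizer_iff.1 hx).symm) hy
    simpa [mul_assoc] using this
  exact mem_of_odd_factor inf_le_left hnorm hg hi hd.1
    ((odd_stab2 hH hab).of_dvd_nat (Subgroup.orderOf_dvd_natCard _ hd)) hdg

end CfsgLib.LocalEven.BenderSplit
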