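import Cfsg.Agent.Lib.LocalEven.BenderSplit.Linear.FaithfulData
import Cfsg.Agent.Lib.LocalEven.BenderSplit.Glue
import Cfsg.Agent.Lib.LocalEven.BenderSplit.OddStabilizer

/-!
# The linear case with faithful two-point stabiliser: the point stabiliser is odd on the involutions

The glue lemma for `G_a` on the involutions at `a` leaves double transitivity, or orbits of
`G_{a,t}` equal to those of `⟨x⟩`; in the second case `G_a` induces a group of odd order.
-/

set_option autoImplicit false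
set_option linter.style.haveILetI false

namespace CfsgLib.LocalEven.BenderSplit

open Subgroup MulAction CfsgLib.Involution.Dihedral CfsgLib.Involution
  CfsgLib.LocalEven.BenderTransitive CfsgLib.LocalEven.SwapInjective CfsgLib.LocalEven.StrongCore

universe u

variable {G : Type u} [Group G] {H : Subgroup G}

/-- The involutions fixing `a`. -/
abbrev InvAt (a : G ⧸ H) : Type u := {t : G // orderOf t = 2 ∧ t • a = a}

/-- The point stabiliser conjugates the involutions at the point. -/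
instance invAtAction (a : G ⧸ H) : MulAction (stabilizer G a) (InvAt a) where
  smul g t := ⟨(g : G) * t * (g : G)⁻¹, (orderOf_conj _ _).trans t.2.1, by
    have hg : (g : G) • a = a := g.2
    rw [mul_smul, mul_smul, inv_smul_eq_iff.2 hg.symm, t.2.2, hg]⟩
  one_smul t := Subtype.ext (by
    show ((1 : stabilizer G a) : G) * t * ((1 : stabilizer G a) : G)⁻¹ = t
    simp)
  mul_smul g h t := Subtype.ext (by
    show ((g * h : stabilizer G a) : G) * t * ((g * h : stabilizer G a) : G)⁻¹ =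
      (g : G) * ((h : G) * t * (h : G)⁻¹) * (g : G)⁻¹
    simp [mul_assoc])

theorem coe_invAt_smul {a : G ⧸ H} (g : stabilizer G a) (t : InvAt a) :
    ((g • t : InvAt a) : G) = (g : G) * t * (g : G)⁻¹ := rfl

variable [Finite G]

section

variable (h : MinSplit H) {a b : G ⧸ H} (hab : a ≠ b)
  (hlin : ∀ s t : G, orderOf s = 2 → s • a = a → orderOf t = 2 → t • a = a → Commute s t)
  {x u k₀ : G} {l : ℕ} (hx : Pure x a b) (F : FaithData x a b u k₀ l)

include h hab hx F

theorem FaithData.glue_setup (t₀ : InvAt a) :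
    BenderSplit.Glue.Setup ((stab2 a b).subgroupOf (stabilizer G a))
      ((zpowers k₀).subgroupOf (stabilizer G a)) ⊥ t₀ := by
  have hJD : zpowers k₀ ≤ stab2 a b := zpowers_le.2 F.mem
  have hJA : zpowers k₀ ≤ stabilizer G a := hJD.trans inf_le_left
  have hJconj : ∀ d ∈ stab2 a b, ∀ j ∈ zpowers k₀, d * j * d⁻¹ ∈ zpowers k₀ := by
    intro d hd j hj
    obtain ⟨j', hj', i, rfl⟩ := F.factor d hd
    have hpow : ∀ i : ℕ, x ^ i * j * (x ^ i)⁻¹ ∈ zpowers k₀ := by
      intro i
      induction i with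
      | zero => simpa using hj
      | succ i ih =>
        rw [show x ^ (i + 1) * j * (x ^ (i + 1))⁻¹ = x * (x ^ i * j * (x ^ i)⁻¹) * x⁻¹ by
          rw [pow_succ', mul_inv_rev]; group]
        exact F.norm _ ih
    rw [show j' * x ^ i * j * (j' * x ^ i)⁻¹ = j' * (x ^ i * j * (x ^ i)⁻¹) * j'⁻¹ by group]
    exact mul_mem (mul_mem hj' (hpow i)) (inv_mem hj')
  refine
    { D_odd := ?_, C_le := bot_le, N_le := fun n hn => hJD hn, C_conj := ?_, N_conj := ?_, ne := ?_,
      trans := ?_, stab := ?_, comm := ?_, ti := ?_, fus := ?_, frob := ?_ }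
  · rw [Nat.card_congr (subgroupOfEquivOfLe (inf_le_left : stab2 a b ≤ stabilizer G a)).toEquiv]
    exact odd_stab2 h.min.se hab
  · intro d _ c hc
    rw [Subgroup.mem_bot] at hc ⊢
    rw [hc]; group
  · exact fun d hd n hn => mem_subgroupOf.2 (hJconj _ hd _ hn)
  · intro e
    have h1 : (⟨k₀, hJA (mem_zpowers k₀)⟩ : stabilizer G a) ∈
        (zpowers k₀).subgroupOf (stabilizer G a) := mem_zpowers k₀
    rw [← e, Subgroup.mem_bot] at h1
    have h2 := F.order
    rw [show k₀ = 1 from congrArg Subtype.val h1, orderOf_one] at h2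
    have : 2 ^ 2 ≤ 2 ^ l := Nat.pow_le_pow_right two_pos F.prime.two_le
    omega
  · intro i
    obtain ⟨j, hj, e⟩ := F.regular t₀ i t₀.2.1 t₀.2.2 i.2.1 i.2.2
    exact ⟨⟨j, hJA hj⟩, hj, Subtype.ext e⟩
  · intro n hn e
    rw [Subgroup.mem_bot]
    exact Subtype.ext (F.free _ hn t₀ t₀.2.1 t₀.2.2
      (mul_inv_eq_iff_eq_mul.1 (congrArg Subtype.val e :)))
  · intro p hp q hq
    rw [Subgroup.mem_bot]
    have hp' : (p : G) ∈ zpowers k₀ := hp
    have hq' : (q : G) ∈ zpowers k₀ := hq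
    obtain ⟨i, hi⟩ := mem_zpowers_iff.1 hp'
    obtain ⟨i', hi'⟩ := mem_zpowers_iff.1 hq'
    refine Subtype.ext ?_
    show (p : G) * q * (p : G)⁻¹ * (q : G)⁻¹ = 1
    rw [← hi, ← hi', ← zpow_add, add_comm, zpow_add, mul_inv_cancel_right, mul_inv_cancel]
  · intro g n hn hn1 hgn hgn1
    rw [Subgroup.mem_bot] at hn1
    have hga : (g : G) • a = a := g.2
    have hb : (g : G) • ((g : G)⁻¹ • b) = b := smul_inv_smul _ _
    have hnb : (n : G) • ((g : G)⁻¹ • b) = (g : G)⁻¹ • b := by
      have h1 : ((g : G) * n * (g : G)⁻¹) • b = b := (mem_stab2.1 (hJD hgn)).2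
      rw [mul_smul, mul_smul, smul_eq_iff_eq_inv_smul] at h1
      exact h1
    rcases F.fixes _ hn (fun e => hn1 (Subtype.ext e)) _ hnb with e | e
    · exact absurd (by rw [← hb, e, hga]) hab.symm
    · exact mem_subgroupOf.2 (mem_stab2.2 ⟨hga, by conv_lhs => rw [← e]; rw [hb]⟩)
  · intro g c hc _
    rw [Subgroup.mem_bot] at hc ⊢
    rw [hc]; group
  · intro d hd n hn e
    rw [Subgroup.mem_bot] at e
    have e' : (d : G) * n = n * d := by
      have := congrArg Subtype.val e
      simp only [Subgroup.coe_mul, Subgroup.coe_inv, OneMemClass.coe_one] at this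
      calc (d : G) * n = (d : G) * n * (d : G)⁻¹ * (n : G)⁻¹ * n * d := by group
        _ = n * d := by rw [this, one_mul]
    obtain ⟨j, hj, i, hdi⟩ := F.factor d hd
    by_cases hxi : x ^ i = 1
    · exact Or.inl (mem_subgroupOf.2 (by rw [hdi, hxi, mul_one]; exact hj))
    refine Or.inr ?_
    rw [Subgroup.mem_bot]
    refine Subtype.ext (F.fpf _ hn ?_)
    have hn' : (n : G) ∈ zpowers k₀ := hn
    obtain ⟨m, hm⟩ := mem_zpowers_iff.1 hn'
    obtain ⟨m', hm'⟩ := mem_zpowers_iff.1 hj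
    have hjn : Commute j (n : G) := by
      rw [← hm, ← hm']; exact Commute.zpow_zpow (Commute.refl k₀) m' m
    have hxn : Commute (x ^ i) (n : G) := by
      rw [hdi] at e'
      have h1 : Commute (j * x ^ i) (n : G) := e'
      have h2 := hjn.inv_left.mul_left h1
      rwa [inv_mul_cancel_left] at h2
    have hcop : (orderOf x).Coprime i := by
      rw [F.order_x]
      exact F.prime.coprime_iff_not_dvd.2 fun hdvd => hxi (by
        obtain ⟨q, rfl⟩ := hdvd
        rw [pow_mul, ← F.order_x, pow_orderOf_eq_one, one_pow])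
    obtain ⟨q, hq⟩ := exists_pow_eq_self_of_coprime hcop.symm
    show Commute (n : G) x
    rw [← hq]
    exact hxn.symm.pow_right q

include hlin in
/-- If the orbits of `G_{a,t}` are those of `⟨x⟩`, the 2-elements of `G_a` centralise the involutions at `a`. -/
theorem FaithData.commute_of_orbits {t₀ : InvAt a} (ht₀x : Commute (t₀ : G) x)
    (huniq : ∀ s : G, orderOf s = 2 → s • a = a → Commute s x → s = (t₀ : G))
    (horb : ∀ i : InvAt a, ∀ g ∈ stabilizer (stabilizer G a) t₀,
      ∃ d ∈ (stab2 a b).subgroupOf (stabilizer G a) ⊓ stabilizer (stabilizer G a) t₀, d • i = g • i) :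
    ∀ g ∈ twoGen (stabilizer G a), ∀ t : G, orderOf t = 2 → t • a = a → Commute g t := by
  classical
  set E := linGroup a hlin with hE
  have hAE : stabilizer G a ≤ normalizer (E : Set G) := stabilizer_le_normalizer_linGroup
  set ρ := actE (stabilizer G a) E hAE with hρ
  have hJA : zpowers k₀ ≤ stabilizer G a := (zpowers_le.2 F.mem).trans inf_le_left
  have hxA : x ∈ stabilizer G a := (mem_inf.1 hx.mem).1
  have hEsq : ∀ v : E, v * v = 1 := fun v => Subtype.ext v.2.2
  have hcard : Nat.card E = 2 ^ l := by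
    haveI := Fintype.ofFinite E
    have h1 := F.card
    rw [Nat.card_congr
      ({ toFun := fun t => ⟨⟨t.1, t.2.2, mul_self t.2.1⟩,
          fun e => ne_one t.2.1 (congrArg Subtype.val e)⟩
         invFun := fun e => ⟨e.1.1, orderOf_eq_two e.1.2.2 (fun h => e.2 (Subtype.ext h)), e.1.2.1⟩
         left_inv := fun _ => rfl
         right_inv := fun _ => rfl } :
        {t : G // orderOf t = 2 ∧ t • a = a} ≃ {e : E // e ≠ 1}),
      Nat.card_eq_fintype_card, Fintype.card_subtype_compl, Fintype.card_subtype_eq] at h1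
    rw [Nat.card_eq_fintype_card]
    have := Fintype.card_pos (α := E)
    have : 0 < 2 ^ l := Nat.two_pow_pos l
    omega
  set kM : MulAut E := ρ ⟨k₀, hJA (mem_zpowers k₀)⟩
  set xM : MulAut E := ρ ⟨x, hxA⟩
  let tE : E := ⟨t₀, t₀.2.2, mul_self t₀.2.1⟩
  have htE : tE ≠ 1 := fun e => ne_one t₀.2.1 (congrArg Subtype.val e)
  have hinv : ∀ {v : E}, v ≠ 1 → orderOf (v : G) = 2 ∧ (v : G) • a = a := fun {v} hv =>
    ⟨orderOf_eq_two v.2.2 fun e => hv (Subtype.ext e), v.2.1⟩
  have hpow : ∀ (g : stabilizer G a) (i : ℕ) (v : E),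
      ((((ρ g) ^ i) v : E) : G) = (g : G) ^ i * v * ((g : G) ^ i)⁻¹ := fun g i v => by
    rw [← map_pow, hρ, actE_apply, Subgroup.coe_pow]
  have hreg : ∀ v : E, v ≠ 1 → ∃ i : ℕ, (kM ^ i) tE = v := by
    intro v hv
    obtain ⟨j, hj, e⟩ := F.regular t₀ v t₀.2.1 t₀.2.2 (hinv hv).1 (hinv hv).2
    obtain ⟨i, rfl⟩ := mem_powers_iff_mem_zpowers.2 hj
    exact ⟨i, Subtype.ext (by rw [hpow]; exact e)⟩
  have hxk : xM * kM * xM⁻¹ ∈ zpowers kM := by
    obtain ⟨i, hi⟩ := mem_zpowers_iff.1 (F.norm k₀ (mem_zpowers k₀))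
    refine mem_zpowers_iff.2 ⟨i, ?_⟩
    rw [← map_zpow, ← map_inv, ← map_mul, ← map_mul]
    exact congrArg ρ (Subtype.ext (by simpa using hi))
  have hxt : xM tE = tE := Subtype.ext (by
    rw [actE_apply]; exact mul_inv_eq_of_eq_mul ht₀x.symm)
  have hxl : xM ^ l = 1 := by
    rw [← map_pow, show (⟨x, hxA⟩ : stabilizer G a) ^ l = 1 from Subtype.ext (by
      rw [Subgroup.coe_pow, ← F.order_x]; exact pow_orderOf_eq_one x), map_one]
  have hxfix : ∀ v, xM v = v → v = 1 ∨ v = tE := by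
    intro v hv
    by_cases hv1 : v = 1
    · exact Or.inl hv1
    · refine Or.inr (Subtype.ext (huniq v (hinv hv1).1 (hinv hv1).2 ?_))
      have e : x * v * x⁻¹ = v := congrArg Subtype.val hv
      exact (mul_inv_eq_iff_eq_mul.1 e).symm
  have horb' : ∀ f ∈ ρ.range, f tE = tE → ∀ v : E, ∃ i : ℕ, f v = (xM ^ i) v := by
    rintro _ ⟨g, rfl⟩ hf v
    by_cases hv : v = 1
    · exact ⟨0, by rw [hv, map_one, map_one]⟩
    have hg : g ∈ stabilizer (stabilizer G a) t₀ := Subtype.ext (congrArg Subtype.val hf :)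
    obtain ⟨d, hd, e⟩ := horb ⟨v, (hinv hv).1, (hinv hv).2⟩ g hg
    obtain ⟨hdD, hdt⟩ := mem_inf.1 hd
    obtain ⟨j, hj, i, hdi⟩ := F.factor d (mem_subgroupOf.1 hdD)
    have hdc : Commute (d : G) (t₀ : G) :=
      mul_inv_eq_iff_eq_mul.1 (congrArg Subtype.val (mem_stabilizer_iff.1 hdt) :)
    have hj1 : j = 1 := F.free j hj t₀ t₀.2.1 t₀.2.2 (by
      have h1 : Commute (j * x ^ i) (t₀ : G) := hdi ▸ hdc
      have h2 := h1.mul_left (ht₀x.symm.pow_left i).inv_left
      rwa [mul_inv_cancel_right] at h2)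
    rw [hj1, one_mul] at hdi
    refine ⟨i, Subtype.ext ?_⟩
    have e' : (d : G) * v * (d : G)⁻¹ = (g : G) * v * (g : G)⁻¹ := congrArg Subtype.val e
    rw [hpow, actE_apply, ← e', hdi]
  have hodd := odd_stabilizer hEsq F.prime F.odd hcard (A := ρ.range) (k := kM) (x := xM) ⟨_, rfl⟩
    ⟨_, rfl⟩ htE hreg hxk hxt hxl hxfix horb'
  -- no involution
  have hno : ∀ f ∈ ρ.range, f * f = 1 → f = 1 := by
    intro f hf hff
    haveI := Fintype.ofFinite E
    have hf1 : ∀ v : E, v ≠ 1 → f v ≠ 1 := fun v hv e => hv (f.injective (e.trans (map_one f).symm))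
    let σ : Equiv.Perm {v : E // v ≠ 1} :=
      { toFun := fun v => ⟨f v, hf1 v v.2⟩
        invFun := fun v => ⟨f v, hf1 v v.2⟩
        left_inv := fun v => Subtype.ext (by
          show f (f v) = v
          rw [← MulAut.mul_apply, hff]; rfl)
        right_inv := fun v => Subtype.ext (by
          show f (f v) = v
          rw [← MulAut.mul_apply, hff]; rfl) }
    have hσ : σ ^ 2 ^ 1 = 1 := Equiv.ext fun v => by
      rw [pow_one, pow_two]; exact σ.left_inv v
    haveI : Fact (Nat.Prime 2) := ⟨Nat.prime_two⟩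
    obtain ⟨w, hw⟩ := Equiv.Perm.exists_fixed_point_of_prime (p := 2) (n := 1) (by
      rw [Fintype.card_subtype_compl, Fintype.card_subtype_eq, ← Nat.card_eq_fintype_card, hcard]
      obtain ⟨l', rfl⟩ : ∃ l', l = l' + 1 := ⟨l - 1, (Nat.succ_pred_eq_of_pos F.prime.pos).symm⟩
      rw [pow_succ]
      have := Nat.two_pow_pos l'
      omega) hσ
    obtain ⟨i, hi⟩ := hreg w w.2
    have hw' : f w = (w : E) := congrArg Subtype.val hw
    have hkA : kM ^ i ∈ ρ.range := pow_mem (MonoidHom.mem_range.2 ⟨_, rfl⟩) i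
    have h2 := hodd ((kM ^ i)⁻¹ * f * kM ^ i) (mul_mem (mul_mem (inv_mem hkA) hf) hkA) (by
        rw [MulAut.mul_apply, MulAut.mul_apply, hi, hw', ← hi, MulAut.inv_apply_self])
      (by rw [show (kM ^ i)⁻¹ * f * kM ^ i * ((kM ^ i)⁻¹ * f * kM ^ i) =
        (kM ^ i)⁻¹ * (f * f) * kM ^ i by group, hff]; group)
    calc f = kM ^ i * ((kM ^ i)⁻¹ * f * kM ^ i) * (kM ^ i)⁻¹ := by group
      _ = 1 := by rw [h2]; group
  intro g hg t ht hta
  refine mem_centralizer_singleton_iff.1 ((closure_le (K := centralizer ({t} : Set G))).2 ?_ hg)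
  rintro g ⟨hga, i, hi⟩
  refine mem_centralizer_singleton_iff.2 ?_
  set g' : stabilizer G a := ⟨g, hga⟩
  have hkey : ∀ i : ℕ, ∀ f ∈ ρ.range, f ^ 2 ^ i = 1 → f = 1 := by
    intro i
    induction i with
    | zero => intro f _ hf; rwa [pow_zero, pow_one] at hf
    | succ i ih =>
      intro f hf hfi
      refine hno f hf ((pow_two f).symm.trans (ih _ (pow_mem hf 2) ?_))
      rw [← pow_mul, ← pow_succ']; exact hfi
  have h1 : ρ g' = 1 := hkey i _ ⟨g', rfl⟩ (by
    rw [← map_pow, show g' ^ 2 ^ i = 1 from Subtype.ext (by simpa [g'] using hi), map_one])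
  exact ((actE_eq_one_iff hAE).1 h1 t ⟨hta, mul_self ht⟩).eq

end

/-- The linear case with faithful two-point stabiliser and a pure element, given the arithmetic that
excludes double transitivity. -/
theorem twoGen_le_centralizer_of_pure_of_arith (h : MinSplit H) {a b : G ⧸ H} (hab : a ≠ b)
    (hlin : ∀ s t : G, orderOf s = 2 → s • a = a → orderOf t = 2 → t • a = a → Commute s t)
    (hfaith : ∀ c ∈ stab2 a b, (∀ t : G, orderOf t = 2 → t • a = a → Commute c t) → c = 1)
    {x : G} (hx : Pure x a b)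
    (harith : ∀ (u k₀ : G) (l : ℕ), FaithData x a b u k₀ l →
      IsMultiplyPretransitive (stabilizer G a) (InvAt a) 2 → False) :
    ∀ g ∈ twoGen (stabilizer G a), ∀ t : G, orderOf t = 2 → t • a = a → Commute g t := by
  obtain ⟨u, k₀, l, F⟩ := exists_faithData h hab hlin hfaith hx
  obtain ⟨⟨t, ht, hta, htx⟩, huniq⟩ := hx.one
  rcases BenderSplit.Glue.glue_bot (F.glue_setup h hab hx ⟨t, ht, hta⟩) rfl with h2 | horb
  · exact (harith u k₀ l F h2).elim
  · exact F.commute_of_orbits h hab hlin hx htx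
      (fun s hs hsa hsx => huniq s t hs hsa hsx ht hta htx) fun i => (horb i).1

end CfsgLib.LocalEven.BenderSplit
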