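import Cfsg.Agent.Lib.LocalEven.BenderSplit.Cyclic

/-!
# The linear case with faithful two-point stabiliser: `G_{a,b} = ⟨k₀⟩⟨x⟩`

All involutions at `a` commute, `G_{a,b}` acts faithfully on them and `x` is pure: then `G_{a,b}` is
a Frobenius group `⟨k₀⟩⟨x⟩` with `|⟨k₀⟩| = 2 ^ l - 1`, `l = |x|`, regular on the involutions at `a`.
-/

set_option autoImplicit false
set_option linter.style.haveILetI false

namespace CfsgLib.LocalEven.BenderSplit

open Subgroup MulAction CfsgLib.Involution.Dihedral CfsgLib.Involution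
  CfsgLib.LocalEven.BenderTransitive CfsgLib.LocalEven.SwapInjective CfsgLib.LocalEven.StrongCore

universe u

variable {G : Type u} [Group G] {H : Subgroup G}

/-- The structure of the two-point stabiliser in the faithful linear case. -/
structure FaithData (x : G) (a b : G ⧸ H) (u k₀ : G) (l : ℕ) : Prop where
  prime : l.Prime
  odd : Odd l
  order_x : orderOf x = l
  swap : orderOf u = 2
  swap_smul : u • a = b
  swap_comm : Commute u x
  mem : k₀ ∈ stab2 a b
  inverted : u * k₀ * u⁻¹ = k₀⁻¹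
  order : orderOf k₀ = 2 ^ l - 1
  card : Nat.card {t : G // orderOf t = 2 ∧ t • a = a} = 2 ^ l - 1
  regular : ∀ s t : G, orderOf s = 2 → s • a = a → orderOf t = 2 → t • a = a →
    ∃ j ∈ zpowers k₀, j * s * j⁻¹ = t
  free : ∀ j ∈ zpowers k₀, ∀ t : G, orderOf t = 2 → t • a = a → Commute j t → j = 1
  norm : ∀ j ∈ zpowers k₀, x * j * x⁻¹ ∈ zpowers k₀
  fpf : ∀ j ∈ zpowers k₀, Commute j x → j = 1
  factor : ∀ d ∈ stab2 a b, ∃ j ∈ zpowers k₀, ∃ i : ℕ, d = j * x ^ i
  fixes : ∀ j ∈ zpowers k₀, j ≠ 1 → ∀ c : G ⧸ H, j • c = c → c = a ∨ c = b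

/-- The involutions at `a` with `1`, if they commute. -/
def linGroup (a : G ⧸ H) (hlin : ∀ s t : G, orderOf s = 2 → s • a = a → orderOf t = 2 →
    t • a = a → Commute s t) : Subgroup G where
  carrier := {x | x • a = a ∧ x * x = 1}
  one_mem' := ⟨one_smul _ _, one_mul _⟩
  mul_mem' {x y} hx hy := ⟨by rw [mul_smul, hy.1, hx.1], by
    have hc : Commute x y := by
      by_cases hx1 : x = 1
      · rw [hx1]; exact Commute.one_left y
      by_cases hy1 : y = 1
      · rw [hy1]; exact Commute.one_right x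
      exact hlin x y (orderOf_eq_two hx.2 hx1) hx.1 (orderOf_eq_two hy.2 hy1) hy.1
    rw [hc.symm.mul_mul_mul_comm, hx.2, hy.2, one_mul]⟩
  inv_mem' {x} hx := by rw [inv_eq_of_mul_eq_one_right hx.2]; exact hx

theorem mem_linGroup {a : G ⧸ H} {hlin : ∀ s t : G, orderOf s = 2 → s • a = a → orderOf t = 2 →
    t • a = a → Commute s t} {x : G} : x ∈ linGroup a hlin ↔ x • a = a ∧ x * x = 1 := Iff.rfl

variable [Finite G]

theorem stabilizer_le_normalizer_linGroup {a : G ⧸ H} {hlin : ∀ s t : G, orderOf s = 2 →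
    s • a = a → orderOf t = 2 → t • a = a → Commute s t} :
    stabilizer G a ≤ normalizer (linGroup a hlin : Set G) := fun g hg =>
  Coprime.mem_normalizer_of_conj_map_le fun e he => by
    have hga : g • a = a := mem_stabilizer_iff.1 hg
    refine ⟨by rw [mul_smul, mul_smul, inv_smul_eq_iff.2 hga.symm, he.1, hga], ?_⟩
    calc g * e * g⁻¹ * (g * e * g⁻¹) = g * (e * e) * g⁻¹ := by group
      _ = 1 := by rw [he.2]; group

theorem exists_faithData (h : MinSplit H) {a b : G ⧸ H} (hab : a ≠ b)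
    (hlin : ∀ s t : G, orderOf s = 2 → s • a = a → orderOf t = 2 → t • a = a → Commute s t)
    (hfaith : ∀ c ∈ stab2 a b, (∀ t : G, orderOf t = 2 → t • a = a → Commute c t) → c = 1)
    {x : G} (hx : Pure x a b) : ∃ u k₀ l, FaithData x a b u k₀ l := by
  classical
  haveI := Fact.mk hx.prime
  have hH := h.min.se
  obtain ⟨u, hu, hua, hux, -⟩ := hx.exists_swap h hab
  set E := linGroup a hlin with hE
  set D := stab2 a b with hD
  have hDodd : Odd (Nat.card D) := odd_stab2 hH hab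
  have hDE : D ≤ normalizer (E : Set G) :=
    (inf_le_left : D ≤ stabilizer G a).trans stabilizer_le_normalizer_linGroup
  have hEmem : ∀ {t : G}, orderOf t = 2 → t • a = a → t ∈ E := fun ht hta =>
    ⟨hta, mul_self ht⟩
  have hEinv : ∀ {e : G}, e ∈ E → e ≠ 1 → orderOf e = 2 ∧ e • a = a :=
    fun he he1 => ⟨orderOf_eq_two he.2 he1, he.1⟩
  obtain ⟨v₀, w₀, hv₀, hv₀a, hw₀, hw₀a, -, hne₀⟩ := exists_four hH h.min.comm a
  have htb : ∀ {t : G}, orderOf t = 2 → t • a = a →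
      orderOf (u * t * u⁻¹) = 2 ∧ (u * t * u⁻¹) • b = b := fun ht hta =>
    ⟨(orderOf_conj u _).trans ht, by
      rw [← hua, smul_smul, inv_mul_cancel_right, mul_smul, hta]⟩
  have htrans : ∀ s t : G, orderOf s = 2 → s • a = a → orderOf t = 2 → t • a = a →
      ∃ g ∈ D, g * s * g⁻¹ = t := by
    intro s t hs hsa ht hta
    obtain ⟨hb1, hb2⟩ := htb hs hsa
    obtain ⟨g, -, hg, e⟩ := exists_conj_fixing_mem hH (N := ⊤) hab hs hsa ht hta hb1 hb2 trivial
      trivial trivial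
    exact ⟨g, hg, e⟩
  haveI hEnt : Nontrivial E := ⟨⟨⟨v₀, hEmem hv₀ hv₀a⟩, 1, fun e => ne_one hv₀ (congrArg Subtype.val e)⟩⟩
  set ρ := actE D E hDE with hρ
  have hρinj : Function.Injective ρ := (injective_iff_map_eq_one ρ).2 fun d hd =>
    Subtype.ext (hfaith d d.2 fun t ht hta => (actE_eq_one_iff hDE).1 hd t (hEmem ht hta))
  have hA : OddTrans ρ.range := by
    refine ⟨hDodd.of_dvd_nat (Subgroup.card_range_dvd _), fun e => Subtype.ext e.2.2,
      fun p q hp hq => ?_, hEnt⟩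
    obtain ⟨hp2, hpa⟩ := hEinv p.2 fun e => hp (Subtype.ext e)
    obtain ⟨hq2, hqa⟩ := hEinv q.2 fun e => hq (Subtype.ext e)
    obtain ⟨g, hg, e⟩ := htrans p q hp2 hpa hq2 hqa
    exact ⟨_, ⟨⟨g, hg⟩, rfl⟩, Subtype.ext e⟩
  let π : D ≃* ρ.range := MonoidHom.ofInjective hρinj
  have hπ : ∀ (d : D) (e : E), (((π d : ρ.range) : MulAut E) e : G) = (d : G) * e * (d : G)⁻¹ :=
    fun d e => rfl
  set F := Cfsg.fittingSubgroup ρ.range with hF
  haveI : F.Normal := CfsgLib.Solvable.Cores.fittingSubgroup_normal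
  haveI : IsCyclic F := hA.isCyclic_fitting
  haveI : Group.IsNilpotent F := CfsgLib.Solvable.Cores.fittingSubgroup_isNilpotent
  have hfix : ∀ d : D, π d ∈ F → ∀ t : G, orderOf t = 2 → t • a = a → Commute (d : G) t → d = 1 := by
    intro d hd t ht hta hdt
    by_contra hd1
    refine ne_one ht (congrArg Subtype.val (hA.eq_one_of_fix hd
      (fun e => hd1 (π.injective (e.trans (map_one π).symm))) (x := ⟨t, hEmem ht hta⟩) (Subtype.ext ?_)))
    rw [hπ]
    exact mul_inv_eq_of_eq_mul hdt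
  -- conjugation by the swap
  have huD : ∀ {y : G}, y ∈ D → u * y * u⁻¹ ∈ D := fun {y} hy =>
    BenderTransitive.conj_mem_of_mem_normalizer (swap_mem_normalizer hu hua) hy
  let θ : D →* D := MonoidHom.mk' (fun y => ⟨u * y * u⁻¹, huD y.2⟩)
    (fun y z => Subtype.ext (show u * ((y : G) * z) * u⁻¹ = u * y * u⁻¹ * (u * z * u⁻¹) by group))
  have hinvol : ∀ y : D, θ (θ y) = y := fun y => Subtype.ext (by
    show u * (u * (y : G) * u⁻¹) * u⁻¹ = y
    calc u * (u * (y : G) * u⁻¹) * u⁻¹ = (u * u) * y * (u * u)⁻¹ := by group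
      _ = y := by rw [mul_self hu]; group)
  let θb : ρ.range →* ρ.range := π.toMonoidHom.comp (θ.comp π.symm.toMonoidHom)
  have hθb : ∀ y, θb (π y) = π (θ y) := fun y => by simp [θb]
  have hinvb : ∀ y, θb (θb y) = y := fun y => by
    obtain ⟨y, rfl⟩ := π.surjective y
    rw [hθb, hθb, hinvol]
  have hθbs : Function.Surjective θb := fun y => ⟨θb y, hinvb y⟩
  have hθbi : Function.Injective θb := Finite.injective_iff_surjective.mpr hθbs
  have hθF : ∀ f ∈ F, θb f ∈ F := fun f hf => by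
    haveI : (F.map θb).Normal := Subgroup.Normal.map inferInstance θb hθbs
    exact CfsgLib.Solvable.Cores.le_fittingSubgroup (N := F.map θb)
      (Group.nilpotent_of_mulEquiv (F.equivMapOfInjective θb hθbi)) ⟨f, hf, rfl⟩
  have hsq : ∀ y : ρ.range, y * y = 1 → y = 1 := fun y hy =>
    mem_bot.1 (ZStar.mem_of_sq_mem (N := (⊥ : Subgroup ρ.range))
      (hA.odd.of_dvd_nat (orderOf_dvd_natCard y)) (mem_bot.2 hy))
  have hcent : ∀ d : D, π d ∈ F → Commute u (d : G) → d = 1 := by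
    intro d hd hdu
    by_contra hd1
    obtain ⟨r, hr, hrd⟩ := Nat.exists_prime_and_dvd fun e => hd1 (orderOf_eq_one_iff.1 e)
    haveI := Fact.mk hr
    set v := d ^ (orderOf d / r) with hv
    have hvo : orderOf v = r := orderOf_pow_orderOf_div (orderOf_pos d).ne' hrd
    have hvu : Commute u (v : G) := by rw [hv, Subgroup.coe_pow]; exact hdu.pow_right _
    obtain ⟨t, ht, hta, htv⟩ := exists_centralized h hab (x := (v : G))
      (by rw [Subgroup.orderOf_coe, hvo]) v.2 (even_centralizer_of_commute hu hvu)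
      (mem_stab2.1 v.2).1
    have := hfix v (by rw [hv, map_pow]; exact pow_mem hd _) t ht hta htv.symm
    rw [this, orderOf_one] at hvo
    exact hr.one_lt.ne hvo
  have hcomm : ∀ f ∈ F, ∀ g ∈ F, f * g = g * f := fun f hf g hg => by
    letI := IsCyclic.commGroup (α := F)
    exact congrArg Subtype.val (mul_comm (⟨f, hf⟩ : F) ⟨g, hg⟩)
  have hinv : ∀ f ∈ F, θb f = f⁻¹ := fun f hf => by
    refine eq_inv_of_mul_eq_one_right ?_
    obtain ⟨y, hy⟩ := π.surjective (f * θb f)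
    have h1 : θb (π y) = π y := by rw [hy, map_mul, hinvb]; exact hcomm _ (hθF f hf) _ hf
    rw [hθb] at h1
    have h2 : Commute u (y : G) :=
      mul_inv_eq_iff_eq_mul.1 (congrArg Subtype.val (π.injective h1) :)
    rw [← hy, hcent y (hy ▸ mul_mem hf (hθF f hf)) h2, map_one]
  have hinF : ∀ y : D, u * (y : G) * u⁻¹ = (y : G)⁻¹ → π y ∈ F := by
    intro i hi
    have hθi : θb (π i) = (π i)⁻¹ := by
      rw [hθb, ← map_inv]; exact congrArg π (Subtype.ext hi)
    have hi2 : π i * π i ∈ F := by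
      refine hA.centralizer_le (Subgroup.mem_centralizer_iff.2 fun f hf => ?_)
      have h1 := hinv _ (‹F.Normal›.conj_mem f hf (π i))
      rw [map_mul, map_mul, map_inv, hθi, hinv f hf] at h1
      have h3 : (π i)⁻¹ * f⁻¹ * π i = π i * f⁻¹ * (π i)⁻¹ := by
        calc (π i)⁻¹ * f⁻¹ * π i = (π i)⁻¹ * f⁻¹ * (π i)⁻¹⁻¹ := by group
          _ = (π i * f * (π i)⁻¹)⁻¹ := h1
          _ = _ := by group
      have h4 : f⁻¹ * (π i * π i) = π i * π i * f⁻¹ := by
        calc f⁻¹ * (π i * π i) = π i * ((π i)⁻¹ * f⁻¹ * π i) * π i := by group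
          _ = π i * (π i * f⁻¹ * (π i)⁻¹) * π i := by rw [h3]
          _ = _ := by group
      calc f * (π i * π i) = f * (π i * π i * f⁻¹) * f := by group
        _ = f * (f⁻¹ * (π i * π i)) * f := by rw [h4]
        _ = _ := by group
    exact ZStar.mem_of_sq_mem (hA.odd.of_dvd_nat (orderOf_dvd_natCard _)) hi2
  have hFinv : ∀ d : D, π d ∈ F → u * (d : G) * u⁻¹ = (d : G)⁻¹ := by
    intro d hd
    have e := hinv _ hd
    rw [hθb, ← map_inv] at e
    exact congrArg Subtype.val (π.injective e)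
  -- the generator
  obtain ⟨f₀, hf₀⟩ := (inferInstance : IsCyclic F).exists_generator
  obtain ⟨k₀, hk₀⟩ := π.surjective (f₀ : ρ.range)
  have hk₀F : π k₀ ∈ F := hk₀ ▸ f₀.2
  have hz : ∀ {j : G}, j ∈ zpowers (k₀ : G) ↔ ∃ d : D, π d ∈ F ∧ (d : G) = j := by
    intro j
    constructor
    · intro hj
      obtain ⟨n, rfl⟩ := mem_zpowers_iff.1 hj
      exact ⟨k₀ ^ n, by rw [map_zpow]; exact zpow_mem hk₀F n, Subgroup.coe_zpow _ _ _⟩
    · rintro ⟨d, hd, rfl⟩
      obtain ⟨n, hn⟩ := mem_zpowers_iff.1 (hf₀ ⟨π d, hd⟩)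
      have e : k₀ ^ n = d := π.injective (by
        rw [map_zpow, hk₀]; exact congrArg Subtype.val hn)
      exact mem_zpowers_iff.2 ⟨n, by rw [← e, Subgroup.coe_zpow]⟩
  have hfree : ∀ j ∈ zpowers (k₀ : G), ∀ t : G, orderOf t = 2 → t • a = a → Commute j t → j = 1 :=
    fun j hj t ht hta hjt => by
      obtain ⟨d, hd, rfl⟩ := hz.1 hj
      exact congrArg Subtype.val (hfix d hd t ht hta hjt)
  have hreg : ∀ s t : G, orderOf s = 2 → s • a = a → orderOf t = 2 → t • a = a →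
      ∃ j ∈ zpowers (k₀ : G), j * s * j⁻¹ = t := by
    intro s t hs hsa ht hta
    obtain ⟨hb1, hb2⟩ := htb ht hta
    obtain ⟨i, -, hi, hia, hiv⟩ := exists_swap_mem hH (N := ⊤) hab hs hsa hb1 hb2 trivial trivial
    have hmem : u * i ∈ D := mem_stab2.2 ⟨by rw [mul_smul, hia, BenderTransitive.swap_smul hu hua],
      by rw [mul_smul, BenderTransitive.swap_smul hi hia, hua]⟩
    refine ⟨u * i, hz.2 ⟨⟨u * i, hmem⟩, hinF _ ?_, rfl⟩, ?_⟩
    · show u * (u * i) * u⁻¹ = (u * i)⁻¹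
      rw [mul_inv_rev, inv_eq hi, inv_eq hu, ← mul_assoc, mul_self hu, one_mul]
    · calc u * i * s * (u * i)⁻¹ = u * (i * s * i⁻¹) * u⁻¹ := by group
        _ = (u * u) * t * (u * u)⁻¹ := by rw [hiv]; group
        _ = t := by rw [mul_self hu]; group
  -- the order
  have hE2 : IsPGroup 2 E := fun e => ⟨1, by rw [pow_one, pow_two]; exact Subtype.ext e.2.2⟩
  obtain ⟨d, hd⟩ := hE2.exists_card_eq
  have hd1 : Nat.card {t : G // orderOf t = 2 ∧ t • a = a} = 2 ^ d - 1 := by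
    haveI := Fintype.ofFinite E
    rw [← hd, Nat.card_congr
      ({ toFun := fun t => ⟨⟨t.1, t.2.2, mul_self t.2.1⟩,
          fun e => ne_one t.2.1 (congrArg Subtype.val e)⟩
         invFun := fun e => ⟨e.1.1, orderOf_eq_two e.1.2.2 (fun h => e.2 (Subtype.ext h)), e.1.2.1⟩
         left_inv := fun _ => rfl
         right_inv := fun _ => rfl } :
        {t : G // orderOf t = 2 ∧ t • a = a} ≃ {e : E // e ≠ 1})]
    rw [Nat.card_eq_fintype_card, Nat.card_eq_fintype_card, Fintype.card_subtype_compl,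
      Fintype.card_subtype_eq]
  have hmult : mult H = 2 ^ d - 1 := (card_involutions_fixing hH a).symm.trans hd1
  have hd2 : 2 ≤ d := by
    by_contra hlt
    have h1 : 2 ^ d ≤ 2 ^ 1 := Nat.pow_le_pow_right two_pos (by omega)
    have h2 := one_lt_mult h.min
    omega
  have hord : orderOf (k₀ : G) = 2 ^ d - 1 := by
    rw [← hd1, ← Nat.card_zpowers]
    refine Nat.card_eq_of_bijective
      (fun j : zpowers (k₀ : G) => (⟨(j : G) * v₀ * (j : G)⁻¹, (orderOf_conj _ _).trans hv₀, by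
          have hja := (mem_stab2.1 ((zpowers_le.2 k₀.2) j.2 : (j : G) ∈ D)).1
          rw [mul_smul, mul_smul, inv_smul_eq_iff.2 hja.symm, hv₀a, hja]⟩ :
        {t : G // orderOf t = 2 ∧ t • a = a})) ⟨fun j j' e => ?_, fun t => ?_⟩
    · have e' : (j : G) * v₀ * (j : G)⁻¹ = j' * v₀ * (j' : G)⁻¹ := congrArg Subtype.val e
      refine Subtype.ext (inv_mul_eq_one.1 (hfree _ (mul_mem (inv_mem j'.2) j.2) v₀ hv₀ hv₀a ?_)).symm
      show (j' : G)⁻¹ * j * v₀ = v₀ * ((j' : G)⁻¹ * j)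
      calc (j' : G)⁻¹ * j * v₀ = (j' : G)⁻¹ * (j * v₀ * (j : G)⁻¹) * j := by group
        _ = _ := by rw [e']; group
    · obtain ⟨j, hj, e⟩ := hreg v₀ t hv₀ hv₀a t.2.1 t.2.2
      exact ⟨⟨j, hj⟩, Subtype.ext e⟩
  -- the action of `x`
  set xD : D := ⟨x, hx.mem⟩
  have hnorm : ∀ j ∈ zpowers (k₀ : G), x * j * x⁻¹ ∈ zpowers (k₀ : G) := by
    intro j hj
    obtain ⟨y, hy, rfl⟩ := hz.1 hj
    exact hz.2 ⟨xD * y * xD⁻¹, by rw [map_mul, map_mul, map_inv]; exact ‹F.Normal›.conj_mem _ hy _, rfl⟩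
  have hfpf : ∀ j ∈ zpowers (k₀ : G), Commute j x → j = 1 := by
    intro j hj hjx
    obtain ⟨y, hy, rfl⟩ := hz.1 hj
    exact hx.eq_one_of_inverted h hab hu hua hux y.2 (hFinv y hy) hjx
  obtain ⟨i, -, hi⟩ := (hA.field_facts hd).2 ⟨v₀, hEmem hv₀ hv₀a⟩
    (fun e => ne_one hv₀ (congrArg Subtype.val e)) (fun y hy => by
      obtain ⟨hy2, hya⟩ := hEinv y.2 fun e => hy (Subtype.ext e)
      obtain ⟨j, hj, e⟩ := hreg v₀ y hv₀ hv₀a hy2 hya
      obtain ⟨z, hzF, rfl⟩ := hz.1 hj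
      exact ⟨π z, hzF, Subtype.ext e⟩) (π xD)
  have hxk : x * k₀ * x⁻¹ = (k₀ : G) ^ 2 ^ i := by
    have e := hi _ hk₀F
    rw [← map_inv, ← map_mul, ← map_mul, ← map_pow] at e
    exact congrArg Subtype.val (π.injective e)
  have hxl : x ^ orderOf x = 1 := pow_orderOf_eq_one x
  have hdl : d = orderOf x := eq_of_two_pow_fpf hx.prime hd2 hord hxk
    (by rw [hxl]; exact Commute.one_left _) hfpf
  subst hdl
  -- the stabiliser of the involution centralised by `x`
  obtain ⟨⟨t₀, ht₀, ht₀a, ht₀x⟩, -⟩ := hx.one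
  have hfactor : ∀ g ∈ D, ∃ j ∈ zpowers (k₀ : G), ∃ i : ℕ, g = j * x ^ i := by
    intro g hg
    have hga : g • a = a := (mem_stab2.1 hg).1
    obtain ⟨j, hj, e⟩ := hreg t₀ (g * t₀ * g⁻¹) ht₀ ht₀a ((orderOf_conj g t₀).trans ht₀)
      (by rw [mul_smul, mul_smul, inv_smul_eq_iff.2 hga.symm, ht₀a, hga])
    let B : Subgroup ρ.range :=
      { carrier := {f | (f : MulAut E) ⟨t₀, hEmem ht₀ ht₀a⟩ = ⟨t₀, hEmem ht₀ ht₀a⟩}
        one_mem' := rfl
        mul_mem' := fun {f f'} hf hf' => by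
          show (f : MulAut E) ((f' : MulAut E) _) = _
          rw [hf', hf]
        inv_mem' := fun {f} hf => by
          show ((f⁻¹ : ρ.range) : MulAut E) _ = _
          rw [InvMemClass.coe_inv]
          conv_lhs => rw [← hf]
          exact MulEquiv.symm_apply_apply _ _ }
    have hxB : π xD ∈ B := Subtype.ext (by rw [hπ]; exact mul_inv_eq_of_eq_mul ht₀x.symm)
    have hoπ : orderOf (π xD) = orderOf x := by rw [π.orderOf_eq, ← Subgroup.orderOf_coe]
    have hB : zpowers (π xD) = B := Subgroup.eq_of_le_of_card_ge (zpowers_le.2 hxB) (by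
      rw [Nat.card_zpowers, hoπ]
      exact (hA.field_facts hd).1 ⟨t₀, hEmem ht₀ ht₀a⟩ B
        (fun e => ne_one ht₀ (congrArg Subtype.val e)) fun f hf => hf)
    have hjD : j ∈ D := zpowers_le.2 k₀.2 hj
    set y : D := (⟨j, hjD⟩ : D)⁻¹ * ⟨g, hg⟩
    have hy : π y ∈ B := Subtype.ext (by
      rw [hπ]
      show j⁻¹ * g * t₀ * (j⁻¹ * g)⁻¹ = t₀
      calc j⁻¹ * g * t₀ * (j⁻¹ * g)⁻¹ = j⁻¹ * (g * t₀ * g⁻¹) * j := by group
        _ = t₀ := by rw [← e]; group)
    rw [← hB, ← mem_powers_iff_mem_zpowers] at hy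
    obtain ⟨n, hn⟩ := hy
    refine ⟨j, hj, n, ?_⟩
    have e' : xD ^ n = y := π.injective (by rw [map_pow]; exact hn)
    have e'' : x ^ n = j⁻¹ * g := by
      have := congrArg Subtype.val e'
      rwa [Subgroup.coe_pow] at this
    rw [e'', mul_inv_cancel_left]
  have hfixes : ∀ j ∈ zpowers (k₀ : G), j ≠ 1 → ∀ c : G ⧸ H, j • c = c → c = a ∨ c = b := by
    intro j hj hj1 c hjc
    obtain ⟨r, hr, hrd⟩ := Nat.exists_prime_and_dvd fun e => hj1 (orderOf_eq_one_iff.1 e)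
    haveI := Fact.mk hr
    set w := j ^ (orderOf j / r) with hw
    have hwo : orderOf w = r := orderOf_pow_orderOf_div (orderOf_pos j).ne' hrd
    have hwz : w ∈ zpowers (k₀ : G) := pow_mem hj _
    have hw1 : w ≠ 1 := fun e => hr.ne_one (by rw [← hwo, e, orderOf_one])
    have hrm : r ∣ mult H := by
      rw [hmult, ← hord, ← hwo, ← Nat.card_zpowers, ← Nat.card_zpowers]
      exact Subgroup.card_dvd_of_le (zpowers_le.2 hwz)
    have hwD : w ∈ D := zpowers_le.2 k₀.2 hwz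
    have hodd : Odd (Nat.card (centralizer ({w} : Set G))) := by
      rw [← Nat.not_even_iff_odd]
      intro hev
      obtain ⟨t, ht, hta, htw⟩ := exists_centralized h hab hwo hwD hev (mem_stab2.1 hwD).1
      exact hw1 (hfree w hwz t ht hta htw.symm)
    refine (fixedSpec h hrm (isPGroup_zpowers_of_orderOf (k := 1) (hwo.trans (pow_one r).symm))
      (fun e => hw1 (zpowers_eq_bot.1 e)) hab (zpowers_le.2 hwD)).1
      (by rwa [centralizer_zpowers_eq]) c (zpowers_le.2 ?_)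
    exact pow_mem (mem_stabilizer_iff.2 hjc : j ∈ stabilizer G c) _
  exact ⟨u, k₀, orderOf x, hx.prime, hDodd.of_dvd_nat (Subgroup.orderOf_dvd_natCard _ hx.mem), rfl, hu,
    hua, hux, k₀.2, hFinv k₀ hk₀F, hord, hd1, hreg, hfree, hnorm, hfpf, hfactor, hfixes⟩

end CfsgLib.LocalEven.BenderSplit
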